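import Cfsg.Agent.H704.S8.Defs
import Cfsg.Agent.H691.StExt
import Cfsg.Agent.H996.AllSplit
import Cfsg.Agent.H759.DS.Alt
import Cfsg.Agent.H464.AltExt
import Cfsg.Agent.H424.DegTools
import Cfsg.Agent.H122.MinDeg

/-!
# S4908, SOC1: alternating socles (helper245)

`Data c X q B` : `q` is an odd prime not dividing `|X|`, `|Out X| ∣ 2`, and the degrees `≠ 1` of `X` are at least
`B ≥ 10, q - 1`.

* `Data.no_alt` : then no almost simple group `A` with `charDegrees A ⊆ D`, `Deg c X D`, has an alternating socle.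
-/

set_option autoImplicit false

universe u v

namespace Cfsg.Agent.H245.S8

open Cfsg Cfsg.Agent.H704.S8
open Cfsg.Agent.H691.AN (AlmostSimple)
open Cfsg.Agent.H424.DegTools (mem_charDegrees charDegrees_of_surjective charDegrees_congr dvd_card clifford_down
  clifford_up pos_of_mem)

/-- the degrees in `D` -/
theorem deg_ge {c : ℕ} {X : Type v} [Group X] [Finite X] {D : Set ℕ} (hD : Deg c X D)
    (hout : c = 2 → (MulAut.conj : X →* MulAut X).range.index ∣ 2) {B : ℕ}
    (hB : ∀ d ∈ charDegrees X, 2 ≤ d → B ≤ d) : ∀ d ∈ D, 3 ≤ d → B ≤ d := by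
  intro d hd h3
  rcases hD with rfl | ⟨hc, rfl⟩
  · exact hB d hd (by omega)
  · have hN : ((MulAut.conj : X →* MulAut X).range).Normal := by
      refine ⟨?_⟩
      rintro _ ⟨x, rfl⟩ g
      exact ⟨g x, by
        ext y
        simp⟩
    obtain ⟨e, he, h1, h2⟩ := clifford_down ((MulAut.conj : X →* MulAut X).range) hd
    have he' : e ∈ charDegrees X :=
      charDegrees_of_surjective (MulAut.conj : X →* MulAut X).rangeRestrict
        (MonoidHom.rangeRestrict_surjective _) he
    have h4 := h2.trans (hout hc)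
    have he0 := pos_of_mem he
    rcases Nat.lt_or_ge e 2 with h5 | h5
    · have h6 : e = 1 := by omega
      rw [h6, Nat.div_one] at h4
      have := Nat.le_of_dvd (by norm_num) h4
      omega
    · exact (hB e he' h5).trans (Nat.le_of_dvd (pos_of_mem hd) h1)

/-- the odd primes dividing the degrees in `D` divide `|X|` -/
theorem deg_prime {c : ℕ} {X : Type v} [Group X] [Finite X] {D : Set ℕ} (hD : Deg c X D)
    (hout : c = 2 → (MulAut.conj : X →* MulAut X).range.index ∣ 2) {q : ℕ} (hq : q.Prime) (hq2 : q ≠ 2) :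
    ∀ d ∈ D, q ∣ d → q ∣ Nat.card X := by
  intro d hd hqd
  rcases hD with rfl | ⟨hc, rfl⟩
  · exact hqd.trans (dvd_card hd)
  · have h1 := hqd.trans (dvd_card hd)
    rw [← (MulAut.conj : X →* MulAut X).range.card_mul_index] at h1
    rcases hq.dvd_mul.1 h1 with h2 | h2
    · exact h2.trans (Subgroup.card_range_dvd _)
    · exact absurd ((Nat.prime_dvd_prime_iff_eq hq Nat.prime_two).1 (h2.trans (hout hc))) hq2

/-- the data used against the alternating socles -/
structure Data (c : ℕ) (X : Type v) [Group X] (q B : ℕ) : Prop where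
  out : c = 2 → (MulAut.conj : X →* MulAut X).range.index ∣ 2
  prime : q.Prime
  odd : q ≠ 2
  ndvd : ¬ q ∣ Nat.card X
  ge : ∀ d ∈ charDegrees X, 2 ≤ d → B ≤ d
  ten : 10 ≤ B
  le : q ≤ B + 1

/-- **no alternating socle** -/
theorem Data.no_alt {c : ℕ} {X : Type v} [Group X] [Finite X] {q B : ℕ} (h : Data c X q B) {D : Set ℕ}
    (hD : Deg c X D) {A : Type u} [Group A] [Finite A] {S : Subgroup A} (hA : AlmostSimple A S)
    (hAD : charDegrees A ⊆ D) {m : ℕ} (hm : 5 ≤ m) (e : S ≃* alternatingGroup (Fin m)) : False := by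
  have hS := hA.normal
  have hs := hA.simple
  -- the degree `m`
  have hmq : m < q := by
    by_contra hcon
    push Not at hcon
    have hqf : Fact q.Prime := ⟨h.prime⟩
    obtain ⟨χ, hχ⟩ := (H33.IM.of_equiv e (H600.AltDeg.im_alt hm (H759.DS.prime_dvd_alt hm h.prime hcon))).of_normal S
    have h1 : charDegree (χ : A → ℂ) ∈ charDegrees A := ⟨χ, rfl⟩
    exact h.ndvd (deg_prime hD h.out h.prime h.odd _ (hAD h1) hχ)
  have hge := deg_ge hD h.out h.ge
  have h10 := h.ten
  have hle := h.le
  rcases Nat.lt_or_ge m 7 with h7 | h7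
  · have : m = 5 ∨ m = 6 := by omega
    rcases this with rfl | rfl
    · have h2 : Fact (Nat.Prime 2) := ⟨Nat.prime_two⟩
      obtain ⟨χ, hχ, -, h1⟩ := H691.StExt.exists_ext S
        (H996.AllSplit.hasSplit_of_lie Nat.prime_two (H759.DS.lie_four S e))
      obtain ⟨Q⟩ := (inferInstance : Nonempty (Sylow 2 S))
      have h3 : Nat.card Q = 4 := by
        rw [Q.card_eq_multiplicity, Nat.card_congr e.toEquiv]
        have h4 := H759.DS.card_alt' (k := 5) (by norm_num)
        have h5 : Nat.card (alternatingGroup (Fin 5)) = 60 := by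
          have : (5 : ℕ).factorial = 120 := rfl
          omega
        rw [h5, show (60 : ℕ) = 2 ^ 2 * 15 by norm_num, Nat.factorization_mul (by norm_num) (by norm_num),
          Nat.Prime.factorization_pow Nat.prime_two]
        simp [Nat.factorization_eq_zero_of_not_dvd (show ¬ 2 ∣ 15 by norm_num)]
      have h4 : 4 ∈ charDegrees A := mem_charDegrees.2 ⟨χ, hχ, by rw [h1 Q, h3]⟩
      have := hge 4 (hAD h4) (by norm_num)
      omega
    · have h2 : Fact (Nat.Prime 3) := ⟨Nat.prime_three⟩
      obtain ⟨χ, hχ, -, h1⟩ := H691.StExt.exists_ext S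
        (H996.AllSplit.hasSplit_of_lie Nat.prime_three (H759.DS.lie_nine S e))
      obtain ⟨Q⟩ := (inferInstance : Nonempty (Sylow 3 S))
      have h3 : Nat.card Q = 9 := by
        rw [Q.card_eq_multiplicity, Nat.card_congr e.toEquiv]
        have h4 := H759.DS.card_alt' (k := 6) (by norm_num)
        have h5 : Nat.card (alternatingGroup (Fin 6)) = 360 := by
          have : (6 : ℕ).factorial = 720 := rfl
          omega
        rw [h5, show (360 : ℕ) = 3 ^ 2 * 40 by norm_num, Nat.factorization_mul (by norm_num) (by norm_num),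
          Nat.Prime.factorization_pow Nat.prime_three]
        simp [Nat.factorization_eq_zero_of_not_dvd (show ¬ 3 ∣ 40 by norm_num)]
      have h4 : 9 ∈ charDegrees A := mem_charDegrees.2 ⟨χ, hχ, by rw [h1 Q, h3]⟩
      have := hge 9 (hAD h4) (by norm_num)
      omega
  · obtain ⟨χ, hχ, -, h1⟩ := H464.AltExt.alt_ext S h7 e
    have h4 : m - 1 ∈ charDegrees A := mem_charDegrees.2 ⟨χ, hχ, h1⟩
    have := hge _ (hAD h4) (by omega)
    omega

end Cfsg.Agent.H245.S8
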