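import Cfsg.Agent.H245.S8.SocAlt
import Cfsg.Agent.H121.Cyc.Spor
import Cfsg.Agent.H121.Cyc.Mathieu
import Cfsg.Agent.H121.Cyc.Ru
import Cfsg.Agent.H121.Cyc.SLy
import Cfsg.Agent.NotCT.Orders
import Cfsg.Agent.H149.Sp.Base

/-!
# S4908, SOC1: alternating socles, the groups without special work (helper245)

`Kills X` : there is `Data c X q B` for all `c`.
-/

set_option autoImplicit false

universe u v

namespace Cfsg.Agent.H245.S8

open Cfsg Cfsg.Agent.H704.S8 Cfsg.Agent.H122
open Cfsg.Agent.H691.AN (AlmostSimple)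
open Cfsg.Agent.H424.DegTools (mem_charDegrees)
open Cfsg.Agent.OrdDiv (Grp)
open Cfsg.Agent.NotCT

/-- no almost simple group with degrees among those of an almost simple group with socle `X` has an alternating
socle -/
def Kills (X : Type v) [Group X] : Prop := ∃ q B : ℕ, ∀ c : ℕ, Data c X q B

theorem Kills.no_alt {X : Type v} [Group X] [Finite X] (h : Kills X) {c : ℕ} {D : Set ℕ}
    (hD : Deg c X D) {A : Type u} [Group A] [Finite A] {S : Subgroup A} (hA : AlmostSimple A S)
    (hAD : charDegrees A ⊆ D) {m : ℕ} (hm : 5 ≤ m) (e : S ≃* alternatingGroup (Fin m)) : False := by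
  obtain ⟨q, B, h⟩ := h
  exact (h c).no_alt hD hA hAD hm e

theorem ge_of_irr {X : Type v} [Group X] {B : ℕ}
    (h : ∀ (k : ℕ) (ρ : Representation ℂ X (Fin k → ℂ)), ρ.IsIrreducible → 2 ≤ k → B ≤ k) :
    ∀ d ∈ charDegrees X, 2 ≤ d → B ≤ d := by
  intro d hd h2
  obtain ⟨χ, ⟨n, ρ, hρ, rfl⟩, h1⟩ := mem_charDegrees.1 hd
  rw [Representation.char_one, Module.finrank_fin_fun] at h1
  obtain rfl : n = d := by exact_mod_cast h1
  exact h n ρ hρ h2

theorem ge_of_minDeg {X : Type v} [Group X] {B : ℕ} (h : MinDeg X B) : ∀ d ∈ charDegrees X, 2 ≤ d → B ≤ d :=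
  ge_of_irr fun k ρ hρ hk => h.irr k ρ hρ hk

theorem kills_of {X : Type v} [Group X] (hs : IsSporadicGroup X) {N : ℕ} (hN0 : N ≠ 0) (hc : Nat.card X = N) {B : ℕ}
    (hm : ∀ d ∈ charDegrees X, 2 ≤ d → B ≤ d) (q : ℕ) (hq : q.Prime) (hq2 : q ≠ 2) (hN : N % q ≠ 0) (h10 : 10 ≤ B)
    (hle : q ≤ B + 1) : Kills X := by
  have hf : Finite X := Nat.finite_of_card_ne_zero (by rw [hc]; exact hN0)
  refine ⟨q, B, fun c => ⟨fun _ => ?_, hq, hq2, ?_, hm, h10, hle⟩⟩
  · exact H149.Sp.card_out_dvd_two hs
  · rw [hc]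
    exact fun h => hN (Nat.mod_eq_zero_of_dvd h)

/-- the bound `p - 2` for a prime exactly dividing the order -/
theorem ge_prime {X : Type v} [Group X] [IsSimpleGroup X] {x : Grp × ℕ} (hx : x ∈ OrdDiv.spor) (hc : Nat.card X = x.2)
    (hx0 : x.2 ≠ 0) (hnp : ¬ x.2.Prime)
    (hfin : ∀ n, (x.1, n) ∉ H121.Cyc.finL) (p : ℕ) (hp : p.Prime) (hp2 : p ≠ 2) (hd : x.2 % p = 0)
    (hd2 : x.2 % (p ^ 2) ≠ 0) : ∀ d ∈ charDegrees X, 2 ≤ d → p - 2 ≤ d := by
  have hf : Finite X := Nat.finite_of_card_ne_zero (by rw [hc]; exact hx0)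
  have hpf : Fact p.Prime := ⟨hp⟩
  have hna : ¬ IsMulCommutative X := H121.Cyc.not_comm_of_card (by rw [hc]; exact hnp)
  have hdd : p ∣ Nat.card X := by rw [hc]; exact Nat.dvd_of_mod_eq_zero hd
  have hdd2 : ¬ p ^ 2 ∣ Nat.card X := by rw [hc]; exact fun h => hd2 (Nat.mod_eq_zero_of_dvd h)
  obtain ⟨P⟩ : Nonempty (Sylow p X) := inferInstance
  have hP : Nat.card P = p := H121.Cyc.card_of_dvd hdd hdd2 P
  have h1 := H121.Cyc.spor_row hna hx hc (fun n hn => absurd hn (hfin n)) hp2 hdd2 P
    (isCyclic_of_prime_card (p := p) hP)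
  have hP' : Nat.card (P : Subgroup X) = p := hP
  rw [hP'] at h1
  exact ge_of_minDeg h1

theorem not_prime_of {N : ℕ} (h : N % 2 = 0) (h2 : N ≠ 2) : ¬ N.Prime := by
  intro hp
  exact h2 ((Nat.prime_dvd_prime_iff_eq Nat.prime_two hp).1 (Nat.dvd_of_mod_eq_zero h)).symm

/-- the rows by the bound `p - 2` -/
theorem kills_prime {X : Type v} [Group X] [IsSimpleGroup X] (hs : IsSporadicGroup X) {x : Grp × ℕ}
    (hx : x ∈ OrdDiv.spor) (hc : Nat.card X = x.2) (h20 : x.2 % 2 = 0 ∧ 2 < x.2)
    (hfin : ∀ y ∈ H121.Cyc.finL, x.1 ≠ y.1) (p q : ℕ) (hp : p.Prime) (hq : q.Prime)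
    (hpq : p ≠ 2 ∧ x.2 % p = 0 ∧ x.2 % (p ^ 2) ≠ 0 ∧ q ≠ 2 ∧ x.2 % q ≠ 0 ∧ 12 ≤ p ∧ q + 1 ≤ p) : Kills X := by
  obtain ⟨h1, h2, h3, h4, h5, h6, h7⟩ := hpq
  exact kills_of hs (N := x.2) (by omega) hc
    (ge_prime hx hc (by omega) (not_prime_of h20.1 (by omega)) (fun n hn => hfin _ hn rfl) p hp h1 h2 h3)
    q hq h4 h5 (by omega) (by omega)

section Rows

variable {X : Type v} [Group X] [hX : IsSimpleGroup X]

/-! ### groups containing `M11` or `M22`, the groups of Rudvalis and Lyons -/

theorem kills_m11 (h : Spor.IsoM11 X) : Kills X :=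
  kills_of (by unfold IsSporadicGroup; tauto) (by norm_num) (Orders.m11 h) (ge_of_minDeg (H121.Cyc.m11 h)) 7
    (by norm_num) (by norm_num) (by norm_num) (by norm_num) (by norm_num)

theorem kills_m12 (h : Spor.IsoM12 X) : Kills X :=
  kills_of (by unfold IsSporadicGroup; tauto) (by norm_num) (Orders.m12 h) (ge_of_minDeg (H121.Cyc.m12 h)) 7
    (by norm_num) (by norm_num) (by norm_num) (by norm_num) (by norm_num)

theorem kills_m22 (h : Spor.IsoM22 X) : Kills X :=
  kills_of (by unfold IsSporadicGroup; tauto) (by norm_num) (Orders.m22 h) (ge_of_minDeg (H121.Cyc.m22 h)) 13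
    (by norm_num) (by norm_num) (by norm_num) (by norm_num) (by norm_num)

theorem kills_m23 (h : Spor.IsoM23 X) : Kills X :=
  kills_of (by unfold IsSporadicGroup; tauto) (by norm_num) (Orders.m23 h) (ge_of_minDeg (H121.Cyc.m23 h)) 13
    (by norm_num) (by norm_num) (by norm_num) (by norm_num) (by norm_num)

theorem kills_m24 (h : Spor.IsoM24 X) : Kills X :=
  kills_of (by unfold IsSporadicGroup; tauto) (by norm_num) (Orders.m24 h) (ge_of_minDeg (H121.Cyc.m24 h)) 13
    (by norm_num) (by norm_num) (by norm_num) (by norm_num) (by norm_num)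

theorem kills_hs (h : Spor.IsoHS X) : Kills X :=
  kills_of (by unfold IsSporadicGroup; tauto) (by norm_num) (Orders.hs h) (ge_of_minDeg (H121.Cyc.hs h)) 13
    (by norm_num) (by norm_num) (by norm_num) (by norm_num) (by norm_num)

theorem kills_mcl (h : Spor.IsoMcL X) : Kills X :=
  kills_of (by unfold IsSporadicGroup; tauto) (by norm_num) (Orders.mcl h) (ge_of_minDeg (H121.Cyc.mcl h)) 13
    (by norm_num) (by norm_num) (by norm_num) (by norm_num) (by norm_num)

theorem kills_co2 (h : Spor.IsoCo2 X) : Kills X :=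
  kills_of (by unfold IsSporadicGroup; tauto) (by norm_num) (Orders.co2 h) (ge_of_minDeg (H121.Cyc.co2 h)) 13
    (by norm_num) (by norm_num) (by norm_num) (by norm_num) (by norm_num)

theorem kills_co3 (h : Spor.IsoCo3 X) : Kills X :=
  kills_of (by unfold IsSporadicGroup; tauto) (by norm_num) (Orders.co3 h) (ge_of_minDeg (H121.Cyc.co3 h)) 13
    (by norm_num) (by norm_num) (by norm_num) (by norm_num) (by norm_num)

theorem kills_ru (h : Spor.IsoRu X) : Kills X :=
  kills_of (by unfold IsSporadicGroup; tauto) (by norm_num) (Orders.ru h) (ge_of_minDeg (H121.Cyc.Ru.ru h)) 11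
    (by norm_num) (by norm_num) (by norm_num) (by norm_num) (by norm_num)

theorem kills_ly (h : Spor.IsoLy X) : Kills X :=
  kills_of (by unfold IsSporadicGroup; tauto) (by norm_num) (Orders.ly h) (ge_of_minDeg (H121.Cyc.SLy.ly h)) 13
    (by norm_num) (by norm_num) (by norm_num) (by norm_num) (by norm_num)

/-! ### groups with a large prime -/

theorem kills_j1 (h : Spor.IsoJ1 X) : Kills X :=
  kills_prime (by unfold IsSporadicGroup; tauto) (x := (.j1, 175560)) (by decide +kernel) (Orders.j1 h)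
    (by decide +kernel) (by decide +kernel) 19 13 (by norm_num) (by norm_num) (by decide +kernel)

theorem kills_j3 (h : Spor.IsoJ3 X) : Kills X :=
  kills_prime (by unfold IsSporadicGroup; tauto) (x := (.j3, 50232960)) (by decide +kernel) (Orders.j3 h)
    (by decide +kernel) (by decide +kernel) 19 7 (by norm_num) (by norm_num) (by decide +kernel)

theorem kills_j4 (h : Spor.IsoJ4 X) : Kills X :=
  kills_prime (by unfold IsSporadicGroup; tauto) (x := (.j4, 86775571046077562880)) (by decide +kernel) (Orders.j4 h)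
    (by decide +kernel) (by decide +kernel) 43 13 (by norm_num) (by norm_num) (by decide +kernel)

theorem kills_on (h : Spor.IsoON X) : Kills X :=
  kills_prime (by unfold IsSporadicGroup; tauto) (x := (.on, 460815505920)) (by decide +kernel) (Orders.on h)
    (by decide +kernel) (by decide +kernel) 31 13 (by norm_num) (by norm_num) (by decide +kernel)

theorem kills_fi23 (h : Spor.IsoFi23 X) : Kills X :=
  kills_prime (by unfold IsSporadicGroup; tauto) (x := (.fi23, 4089470473293004800)) (by decide +kernel)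
    (Orders.fi23 h) (by decide +kernel) (by decide +kernel) 23 19 (by norm_num) (by norm_num) (by decide +kernel)

theorem kills_fi24 (h : Spor.IsoFi24' X) : Kills X :=
  kills_prime (by unfold IsSporadicGroup; tauto) (x := (.fi24, 1255205709190661721292800)) (by decide +kernel)
    (Orders.fi24 h) (by decide +kernel) (by decide +kernel) 29 19 (by norm_num) (by norm_num) (by decide +kernel)

theorem kills_th (h : Spor.IsoTh X) : Kills X :=
  kills_prime (by unfold IsSporadicGroup; tauto) (x := (.th, 90745943887872000)) (by decide +kernel) (Orders.th h)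
    (by decide +kernel) (by decide +kernel) 31 11 (by norm_num) (by norm_num) (by decide +kernel)

theorem kills_b (h : Spor.IsoB X) : Kills X :=
  kills_prime (by unfold IsSporadicGroup; tauto) (x := (.b, 4154781481226426191177580544000000)) (by decide +kernel)
    (Orders.b h) (by decide +kernel) (by decide +kernel) 47 29 (by norm_num) (by norm_num) (by decide +kernel)

theorem kills_m (h : Spor.IsoM X) : Kills X :=
  kills_prime (by unfold IsSporadicGroup; tauto)
    (x := (.m, 808017424794512875886459904961710757005754368000000000)) (by decide +kernel) (Orders.m h)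
    (by decide +kernel) (by decide +kernel) 71 37 (by norm_num) (by norm_num) (by decide +kernel)

end Rows

end Cfsg.Agent.H245.S8
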