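import Cfsg.Agent.H245.S8.SocAltRows
import Cfsg.Agent.H440.QA.SuzRow
import Cfsg.Agent.H600.QA.FiTwentyTwo
import Cfsg.Agent.H600.QA.CoOne
import Cfsg.Agent.H635.CJ.JTwo
import Cfsg.Agent.H707.Odd.Mod
import Cfsg.Agent.H610.LD.RowJ2
import Cfsg.Agent.H30.OZ.HeMin
import Cfsg.Agent.H468.PW.HN

/-!
# S4908, SOC1: alternating socles, the groups `J2`, `Suz`, `Fi22`, `He`, `HN`, `Co1` (helper245)

`no_alt` : **the theorem for all 26 groups**.
-/

set_option autoImplicit false

universe u v

namespace Cfsg.Agent.H245.S8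

open Cfsg Cfsg.Agent.H704.S8 Cfsg.Agent.H122 Subgroup
open Cfsg.Agent.H691.AN (AlmostSimple)
open Cfsg.Agent.NotCT

section Rows

variable {X : Type v} [Group X] [hX : IsSimpleGroup X]

theorem kills_he (h : Spor.IsoHe X) : Kills X := by
  obtain ⟨e⟩ := h
  have hs : IsSimpleGroup Spor.He := e.symm.isSimpleGroup
  exact kills_of (by unfold IsSporadicGroup; have : Spor.IsoHe X := ⟨e⟩; tauto) (by norm_num) (Orders.he ⟨e⟩)
    (ge_of_minDeg (H30.OZ.HeMin.minDeg.congr e.symm)) 11
    (by norm_num) (by norm_num) (by norm_num) (by norm_num) (by norm_num)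

theorem kills_hn (h : Spor.IsoHN X) : Kills X := by
  obtain ⟨e⟩ := h
  have hm : MinDeg Spor.HN 25 := by
    have hs : IsSimpleGroup Spor.HN := e.symm.isSimpleGroup
    have hf : Finite Spor.HN := Cfsg.Agent.H463.Sp.HN.finite_HN
    exact H121.Cyc.minDeg_of_fin (H121.Cyc.commutator_top (H121.Cyc.not_comm_of_card (by
      rw [Orders.hn (K := Spor.HN) ⟨MulEquiv.refl _⟩]; norm_num))) fun k ρ hρ hk => H468.PW.HNP.minDeg k ρ hρ hk
  exact kills_of (by unfold IsSporadicGroup; have : Spor.IsoHN X := ⟨e⟩; tauto) (by norm_num) (Orders.hn ⟨e⟩)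
    (ge_of_minDeg (hm.congr e.symm)) 13
    (by norm_num) (by norm_num) (by norm_num) (by norm_num) (by norm_num)

omit hX in
theorem kills_co1 (h : Spor.IsoCo1 X) : Kills X := by
  obtain ⟨e⟩ := h
  exact kills_of (by unfold IsSporadicGroup; have : Spor.IsoCo1 X := ⟨e⟩; tauto) (by norm_num) (Orders.co1 ⟨e⟩)
    (ge_of_minDeg (H600.QA.minDeg_co1.congr e.symm)) 17
    (by norm_num) (by norm_num) (by norm_num) (by norm_num) (by norm_num)

theorem kills_suz (h : Spor.IsoSuz X) : Kills X := by
  obtain ⟨e⟩ := h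
  have hs : IsSimpleGroup Spor.Suz := e.symm.isSimpleGroup
  have hna : ¬ IsMulCommutative Spor.Suz := H121.Cyc.not_comm_of_card (by
    rw [Orders.suz (K := Spor.Suz) ⟨MulEquiv.refl _⟩]; norm_num)
  have hm : MinDeg Spor.Suz 20 :=
    H440.QA.SuzRow.minDeg (H973.QA.isCover_id (H121.Cyc.commutator_top hna)) (Or.inl (by
      have h1 : (MonoidHom.id Spor.Suz).ker = ⊥ := by
        rw [MonoidHom.ker_eq_bot_iff]
        exact fun _ _ h => h
      rw [h1, card_bot]))
  exact kills_of (by unfold IsSporadicGroup; have : Spor.IsoSuz X := ⟨e⟩; tauto) (by norm_num) (Orders.suz ⟨e⟩)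
    (ge_of_minDeg (hm.congr e.symm)) 17
    (by norm_num) (by norm_num) (by norm_num) (by norm_num) (by norm_num)

theorem kills_fi22 (h : Spor.IsoFi22 X) : Kills X := by
  obtain ⟨e⟩ := h
  have hs : IsSimpleGroup Spor.Fi22 := e.symm.isSimpleGroup
  have hcard := Orders.fi22 (K := Spor.Fi22) ⟨MulEquiv.refl _⟩
  have hna : ¬ IsMulCommutative Spor.Fi22 := H121.Cyc.not_comm_of_card (by rw [hcard]; norm_num)
  have hf : Finite Spor.Fi22 := Nat.finite_of_card_ne_zero (by rw [hcard]; norm_num)
  have hm : MinDeg Spor.Fi22 24 := by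
    obtain ⟨Y, hY, hab, hexp, hcj⟩ := Cfsg.Agent.H991.QA.fi22_five
    have h1 := H973.QA.minDeg_conj (H973.QA.isCover_id (H121.Cyc.commutator_top hna)) Nat.prime_five (by
      have h1 : (MonoidHom.id Spor.Fi22).ker = ⊥ := by
        rw [MonoidHom.ker_eq_bot_iff]
        exact fun _ _ h => h
      rw [h1, card_bot]
      norm_num) Y hab hexp (by
      rintro rfl
      rw [Subgroup.card_bot] at hY
      omega) hcj
    rwa [hY] at h1
  exact kills_of (by unfold IsSporadicGroup; have : Spor.IsoFi22 X := ⟨e⟩; tauto) (by norm_num) (Orders.fi22 ⟨e⟩)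
    (ge_of_minDeg (hm.congr e.symm)) 17
    (by norm_num) (by norm_num) (by norm_num) (by norm_num) (by norm_num)

theorem kills_j2 (h : Spor.IsoJ2 X) : Kills X := by
  have hcard := Orders.j2 h
  have hf : Finite X := Nat.finite_of_card_ne_zero (by rw [hcard]; norm_num)
  have h9 := ge_of_minDeg (H635.CJ.JTwo.minDeg h)
  refine kills_of (by unfold IsSporadicGroup; tauto) (by norm_num) hcard (B := 10) ?_ 11
    (by norm_num) (by norm_num) (by norm_num) (by norm_num) (by norm_num)
  intro d hd h2
  have h3 := h9 d hd h2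
  rcases Nat.lt_or_ge 9 d with h4 | h4
  · exact h4
  exfalso
  obtain rfl : d = 9 := by omega
  obtain ⟨x, hx, hc⟩ := H610.LD.exists_seven h
  have h7 : Fact (Nat.Prime 7) := ⟨by norm_num⟩
  have hfac : (Nat.card X).factorization 7 = 1 := by
    rw [hcard, show (604800 : ℕ) = 7 ^ 1 * 86400 by norm_num, Nat.factorization_mul (by norm_num) (by norm_num),
      Nat.Prime.factorization_pow (by norm_num)]
    simp [Nat.factorization_eq_zero_of_not_dvd (show ¬ 7 ∣ 86400 by norm_num)]
  obtain ⟨P, hP⟩ : ∃ P : Sylow 7 X, (P : Subgroup X) = zpowers x :=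
    ⟨Sylow.ofCard (zpowers x) (by rw [Nat.card_zpowers, hx, hfac, pow_one]), rfl⟩
  have hP7 : Nat.card P = 7 := by
    have h5 : Nat.card (P : Subgroup X) = 7 := by rw [hP, Nat.card_zpowers, hx]
    exact h5
  have hcz : centralizer ((P : Subgroup X) : Set X) = centralizer ({x} : Set X) := by
    rw [hP]
    rw [zpowers_eq_closure, centralizer_closure]
  have hC : Nat.card (centralizer ((P : Subgroup X) : Set X)) = 7 := by rw [hcz, hc]
  have hle : (P : Subgroup X) ≤ centralizer ((P : Subgroup X) : Set X) := by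
    rw [hcz, hP, zpowers_le, mem_centralizer_singleton_iff]
  have hCP : centralizer ((P : Subgroup X) : Set X) = (P : Subgroup X) :=
    (eq_of_le_of_card_ge hle (by rw [hC]; exact hP7.ge)).symm
  have hN := SporadicA.DegreePrime.card_normalizer_of_self_centralizing 7 P hP7 hCP.le
  rw [hcard] at hN
  have he : (centralizer ((P : Subgroup X) : Set X)).relIndex (normalizer ((P : Subgroup X) : Set X)) = 6 := by
    rw [hCP]
    have h6 := Subgroup.card_mul_index ((P : Subgroup X).subgroupOf (normalizer ((P : Subgroup X) : Set X)))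
    rw [Nat.card_congr (subgroupOfEquivOfLe le_normalizer).toEquiv] at h6
    have h7' : Nat.card (P : Subgroup X) = 7 := hP7
    have h8 : Nat.card (normalizer ((P : Subgroup X) : Set X)) = 42 := by
      rw [show (42 : ℕ) = 7 * (604800 / 7 % 7) by norm_num]
      exact hN
    rw [h7', h8] at h6
    change ((P : Subgroup X).subgroupOf (normalizer ((P : Subgroup X) : Set X))).index = 6
    omega
  obtain ⟨χ, hχ, h1⟩ := H424.DegTools.mem_charDegrees.1 hd
  have key := H707.Odd.degree_mod (by norm_num) P hP7 hC he (⟨χ, hχ⟩ : IrrCharacter X) h1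
  rcases key with h | h | h | h | h
  · norm_num at h
  all_goals
    rw [Int.modEq_iff_dvd] at h
    norm_num at h

end Rows

/-- **All sporadic groups** -/
theorem kills_all {X : Type v} [Group X] [IsSimpleGroup X] (h : IsSporadicGroup X) : Kills X := by
  unfold IsSporadicGroup at h
  rcases h with h | h | h | h | h | h | h | h | h | h | h | h | h | h | h | h | h | h | h | h | h | h | h | h | h | h
  · exact kills_m11 h
  · exact kills_m12 h
  · exact kills_m22 h
  · exact kills_m23 h
  · exact kills_m24 h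
  · exact kills_j1 h
  · exact kills_j2 h
  · exact kills_j3 h
  · exact kills_j4 h
  · exact kills_co1 h
  · exact kills_co2 h
  · exact kills_co3 h
  · exact kills_mcl h
  · exact kills_hs h
  · exact kills_suz h
  · exact kills_he h
  · exact kills_ru h
  · exact kills_on h
  · exact kills_ly h
  · exact kills_fi22 h
  · exact kills_fi23 h
  · exact kills_fi24 h
  · exact kills_hn h
  · exact kills_th h
  · exact kills_b h
  · exact kills_m h

/-- **SOC1, alternating socle**: no almost simple group whose degrees are degrees of an almost simple group with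
sporadic socle `X` has an alternating socle. -/
theorem no_alt {X : Type v} [Group X] [Finite X] [IsSimpleGroup X] (h : IsSporadicGroup X) {c : ℕ} {D : Set ℕ}
    (hD : Deg c X D) {A : Type u} [Group A] [Finite A] {S : Subgroup A} (hA : AlmostSimple A S)
    (hAD : charDegrees A ⊆ D) : ¬ IsAlternating S := by
  rintro ⟨m, hm, ⟨e⟩⟩
  exact (kills_all h).no_alt hD hA hAD hm e

end Cfsg.Agent.H245.S8
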